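import Mathlib.LinearAlgebra.Matrix.SpecialLinearGroup
import Mathlib.LinearAlgebra.Matrix.Transvection
import Mathlib.GroupTheory.OrderOfElement

/-!
# Groups with the centraliser of a transvection of `SL₅(2)`: interface

The model `H0` is the centraliser in `SL₅(2)` of the transvection `x 0 4`. It has seven classes of
non-central involutions, with representatives `rep k`, `k = 0, 2, 3, 4, 5, 6, 7`:
`0, 3` and `5` lie in `O₂(H0)`; `rep 1` is the central transvection.
-/

set_option autoImplicit false

namespace Cfsg.Agent.L52Cent

open Matrix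

/-- The group `SL₅(2)`. -/
abbrev SL5 : Type := SpecialLinearGroup (Fin 5) (ZMod 2)

/-- The root element `1 + E i j` (`1` if `i = j`). -/
def x (i j : Fin 5) : SL5 :=
  if h : i ≠ j then ⟨transvection i j 1, det_transvection_of_ne i j h 1⟩ else 1

/-- The central transvection of the model. -/
def tv : SL5 := x 0 4

/-- The model centraliser, as a subgroup. -/
abbrev H0 : Subgroup SL5 := Subgroup.centralizer ({tv} : Set SL5)

theorem mem_H0_iff (g : SL5) : g ∈ H0 ↔ g * tv = tv * g := by
  rw [Subgroup.mem_centralizer_singleton_iff]

/-- Representatives of the classes of involutions of `H0`, as matrices. -/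
def repM : Fin 8 → SL5 := ![x 0 1, x 0 4, x 1 2, x 1 4, x 0 1 * x 2 3, x 0 1 * x 2 4, x 0 4 * x 1 2,
  x 1 2 * x 3 4]

theorem repM_mem : ∀ k, repM k ∈ H0 := by
  intro k
  rw [mem_H0_iff]
  fin_cases k <;> decide +kernel

/-- Representatives of the classes of involutions of `H0`. -/
def rep (k : Fin 8) : H0 := ⟨repM k, repM_mem k⟩

/-- The matrices with identity diagonal blocks, supported above them on rows `< r` and columns `≥ r`. -/
def InU (r : ℕ) (g : SL5) : Prop :=
  ∀ i j : Fin 5, ¬ (i.val < r ∧ r ≤ j.val) → (g : Matrix (Fin 5) (Fin 5) (ZMod 2)) i j = if i = j then 1 else 0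

/-- A finite group with an involution `z` whose centraliser is identified with the model. -/
structure Setup (G : Type*) [Group G] where
  z : G
  ι : H0 →* G
  injective : Function.Injective ι
  range_eq : ι.range = Subgroup.centralizer ({z} : Set G)
  ι_one : ι (rep 1) = z

namespace Setup

variable {G : Type*} [Group G] (S : Setup G)

/-- The class `k` of involutions of the centraliser is fused to `z`. -/
def fus (k : Fin 8) : Prop := IsConj S.z (S.ι (rep k))

/-- The classes fused to `z` are exactly those of `l`. -/
def Fused (l : List (Fin 8)) : Prop := ∀ k, S.fus k ↔ k ∈ l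

/-- The affine case: only `E₁ = {z} ∪ class 0` is fused. -/
def IsAffineCase : Prop := S.Fused [0, 1]

/-- The case of `SL₅(2)`. -/
def IsL52Case : Prop := S.Fused [0, 1, 2, 3]

/-- The case of `M₂₄`. -/
def IsM24Case : Prop := S.Fused [0, 1, 2, 3, 4]

/-- The case of the Held group. -/
def IsHeCase : Prop := S.Fused [0, 1, 2, 3, 4, 7]

end Setup

end Cfsg.Agent.L52Cent
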