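import Mathlib.LinearAlgebra.Matrix.Action
import Mathlib.GroupTheory.Complement
import Mathlib.Data.Fintype.Pi
import Cfsg.Agent.Lib.L52Cent.Basic

/-!
# The model of the affine case: transvections with centre `e₀` in `SL₅(2)` (S1716)

`E1` is the group `InU 1` of transvections with centre `e₀`; `autMat φ` is the block matrix of an
endomorphism `φ` of `E1`, so that `autMat` linearises the action of a group on `E1`.
-/

set_option autoImplicit false

namespace Cfsg.Agent.L52Cent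

open Matrix

local notation "M5" => Matrix (Fin 5) (Fin 5) (ZMod 2)

/-- An entry, as a function on `SL₅(2)`. -/
def ent (g : SL5) (i j : Fin 5) : ZMod 2 := g.1 i j

theorem inU_one_iff {g : SL5} : InU 1 g ↔ (∀ i j : Fin 5, i ≠ 0 → (g : M5) i j = if i = j then 1 else 0)
    ∧ (g : M5) 0 0 = 1 := by
  constructor
  · intro h
    exact ⟨fun i j hi => h i j (by rintro ⟨h1, -⟩; exact hi (Fin.ext (by simpa using h1))),
      by simpa using h 0 0 (by simp)⟩
  · rintro ⟨h1, h2⟩ i j hij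
    by_cases hi : i = 0
    · subst hi
      obtain rfl : j = 0 := Fin.ext (by simp at hij; simpa using hij)
      simpa using h2
    · exact h1 i j hi

theorem coe_mul_apply (g h : SL5) (i j : Fin 5) :
    ((g * h : SL5) : M5) i j = ∑ k, (g : M5) i k * (h : M5) k j := by
  rw [SpecialLinearGroup.coe_mul, Matrix.mul_apply]

theorem mul_row {g : SL5} {i : Fin 5} (hg : ∀ k, (g : M5) i k = if i = k then 1 else 0) (h : SL5)
    (j : Fin 5) : ((g * h : SL5) : M5) i j = (h : M5) i j := by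
  rw [coe_mul_apply, Finset.sum_eq_single i]
  · simp [hg]
  · intro k _ hk; simp [hg, Ne.symm hk]
  · simp

/-- Row 0 is additive on `E1`. -/
theorem inU_mul_row {g h : SL5} (hg : InU 1 g) (hh : InU 1 h) {j : Fin 5} (hj : j ≠ 0) :
    ((g * h : SL5) : M5) 0 j = (g : M5) 0 j + (h : M5) 0 j := by
  obtain ⟨-, hg0⟩ := inU_one_iff.1 hg
  obtain ⟨hh1, -⟩ := inU_one_iff.1 hh
  rw [coe_mul_apply, Finset.sum_eq_add (0 : Fin 5) j (Ne.symm hj)]
  · rw [hg0, hh1 j j hj, if_pos rfl, one_mul, mul_one, add_comm]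
  · intro k _ hk; rw [hh1 k j hk.1, if_neg hk.2, mul_zero]
  · simp
  · simp

theorem inU_mul {g h : SL5} (hg : InU 1 g) (hh : InU 1 h) : InU 1 (g * h) := by
  obtain ⟨hg1, hg0⟩ := inU_one_iff.1 hg
  obtain ⟨hh1, hh0⟩ := inU_one_iff.1 hh
  refine inU_one_iff.2 ⟨fun i j hi => ?_, ?_⟩
  · rw [mul_row (fun k => hg1 i k hi), hh1 i j hi]
  · rw [coe_mul_apply, Finset.sum_eq_single (0 : Fin 5)]
    · rw [hg0, hh0, one_mul]
    · intro k _ hk; rw [hh1 k 0 hk, if_neg hk, mul_zero]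
    · simp

theorem inU_ext {g h : SL5} (hg : InU 1 g) (hh : InU 1 h)
    (he : ∀ j : Fin 5, j ≠ 0 → (g : M5) 0 j = (h : M5) 0 j) : g = h := by
  obtain ⟨hg1, hg0⟩ := inU_one_iff.1 hg
  obtain ⟨hh1, hh0⟩ := inU_one_iff.1 hh
  refine Subtype.ext (Matrix.ext fun i j => ?_)
  by_cases hi : i = 0
  · subst hi
    by_cases hj : j = 0
    · subst hj; rw [hg0, hh0]
    · exact he j hj
  · rw [hg1 i j hi, hh1 i j hi]

theorem inU_one_one : InU 1 (1 : SL5) :=
  inU_one_iff.2 ⟨fun i j _ => by simp [Matrix.one_apply], by simp⟩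

theorem inU_sq {g : SL5} (hg : InU 1 g) : g * g = 1 :=
  inU_ext (inU_mul hg hg) inU_one_one fun j hj => by
    rw [inU_mul_row hg hg hj, CharTwo.add_self_eq_zero]; simp [Ne.symm hj]

theorem inU_comm {g h : SL5} (hg : InU 1 g) (hh : InU 1 h) : g * h = h * g :=
  inU_ext (inU_mul hg hh) (inU_mul hh hg) fun j hj => by
    rw [inU_mul_row hg hh hj, inU_mul_row hh hg hj, add_comm]

/-- The transvections with centre `e₀`. -/
def E1 : Subgroup SL5 where
  carrier := {g | InU 1 g}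
  one_mem' := inU_one_one
  mul_mem' := inU_mul
  inv_mem' := fun {g} hg => by
    show InU 1 g⁻¹
    rwa [show g⁻¹ = g from inv_eq_of_mul_eq_one_right (inU_sq hg)]

theorem mem_E1 {g : SL5} : g ∈ E1 ↔ InU 1 g := Iff.rfl

/-- The element of `E1` with row `(1, a)`. -/
def rv (a : Fin 4 → ZMod 2) : SL5 :=
  (if a 0 = 1 then x 0 1 else 1) * (if a 1 = 1 then x 0 2 else 1) *
    (if a 2 = 1 then x 0 3 else 1) * (if a 3 = 1 then x 0 4 else 1)

theorem rv_entries (a : Fin 4 → ZMod 2) (i j : Fin 5) :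
    (rv a : M5) i j = if i = j then 1 else if i = 0 then Fin.cases 0 a j else 0 :=
  (by decide +kernel : ∀ a : Fin 4 → ZMod 2, ∀ i j : Fin 5,
    ent (rv a) i j = if i = j then 1 else if i = 0 then Fin.cases 0 a j else 0) a i j

theorem rv_mem (a : Fin 4 → ZMod 2) : rv a ∈ E1 :=
  inU_one_iff.2 ⟨fun i j hi => by rw [rv_entries, if_neg hi], by rw [rv_entries, if_pos rfl]⟩

theorem eq_rv {g : SL5} (hg : g ∈ E1) : g = rv fun j => (g : M5) 0 j.succ :=
  inU_ext hg (rv_mem _) fun j hj => by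
    obtain ⟨j', rfl⟩ := Fin.exists_succ_eq.2 hj
    rw [rv_entries, if_neg (Ne.symm hj), if_pos rfl, Fin.cases_succ]

theorem x_mem_E1 : ∀ j : Fin 5, j ≠ 0 → x 0 j ∈ E1 := by
  intro j hj
  have h : ∀ j : Fin 5, j ≠ 0 →
      (∀ i k : Fin 5, i ≠ 0 → ent (x 0 j) i k = if i = k then 1 else 0) ∧ ent (x 0 j) 0 0 = 1 := by
    decide +kernel
  exact inU_one_iff.2 (h j hj)

theorem x_row (i j : Fin 5) (hi : i ≠ 0) (hj : j ≠ 0) : (x 0 i : M5) 0 j = if i = j then 1 else 0 :=
  (by decide +kernel : ∀ i j : Fin 5, i ≠ 0 → j ≠ 0 → ent (x 0 i) 0 j = if i = j then 1 else 0) i j hi hj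

theorem tv_mem_E1 : tv ∈ E1 := x_mem_E1 4 (by decide)

theorem tv_ne_one : tv ≠ 1 := by decide +kernel

/-- The stabiliser of `e₀`. -/
def st0 : Subgroup SL5 where
  carrier := {g | ∀ i, (g : M5) i 0 = if i = 0 then 1 else 0}
  one_mem' := fun i => by simp [Matrix.one_apply]
  mul_mem' := fun {g h} hg hh i => by
    rw [coe_mul_apply, Finset.sum_eq_single (0 : Fin 5)]
    · rw [hh 0, if_pos rfl, mul_one, hg i]
    · intro k _ hk; rw [hh k, if_neg hk, mul_zero]
    · simp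
  inv_mem' := fun {g} hg i => by
    have h : ((g⁻¹ * g : SL5) : M5) i 0 = (g⁻¹ : SL5).1 i 0 := by
      rw [coe_mul_apply, Finset.sum_eq_single (0 : Fin 5)]
      · rw [hg 0, if_pos rfl, mul_one]
      · intro k _ hk; rw [hg k, if_neg hk, mul_zero]
      · simp
    rw [inv_mul_cancel] at h
    rw [← h]
    simp [Matrix.one_apply]

theorem E1_le_st0 : E1 ≤ st0 := fun g hg i => by
  obtain ⟨h1, h0⟩ := inU_one_iff.1 hg
  by_cases hi : i = 0
  · subst hi; simpa using h0
  · rw [h1 i 0 hi]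

theorem conj_mem_E1 {g n : SL5} (hg : g ∈ st0) (hn : n ∈ E1) : g * n * g⁻¹ ∈ E1 := by
  obtain ⟨h1, h0⟩ := inU_one_iff.1 hn
  have hg' : g⁻¹ ∈ st0 := inv_mem hg
  set D : M5 := (n : M5) - 1 with hD
  have hD1 : ∀ i j, i ≠ 0 → D i j = 0 := fun i j hi => by
    simp [hD, h1 i j hi, Matrix.one_apply]
  have hD0 : D 0 0 = 0 := by simp [hD, h0]
  have hgD : (g : M5) * D = D := by
    ext i j
    rw [Matrix.mul_apply, Finset.sum_eq_single (0 : Fin 5)]
    · rw [hg i]
      by_cases hi : i = 0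
      · subst hi; rw [if_pos rfl, one_mul]
      · rw [if_neg hi, zero_mul, hD1 i j hi]
    · intro k _ hk; rw [hD1 k j hk, mul_zero]
    · simp
  have hval : ((g * n * g⁻¹ : SL5) : M5) = 1 + D * (g⁻¹ : SL5).1 := by
    rw [← hgD, SpecialLinearGroup.coe_mul, SpecialLinearGroup.coe_mul, hD, Matrix.mul_sub, Matrix.mul_one,
      Matrix.sub_mul, ← SpecialLinearGroup.coe_mul g g⁻¹, mul_inv_cancel, SpecialLinearGroup.coe_one]
    abel
  refine inU_one_iff.2 ⟨fun i j hi => ?_, ?_⟩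
  · rw [hval, Matrix.add_apply, Matrix.mul_apply, Finset.sum_eq_zero (fun k _ => by rw [hD1 i k hi, zero_mul]),
      add_zero, Matrix.one_apply]
  · rw [hval, Matrix.add_apply, Matrix.mul_apply, Finset.sum_eq_zero (fun k _ => ?_), add_zero,
      Matrix.one_apply_eq]
    rw [hg' k]
    by_cases hk : k = 0
    · subst hk; rw [hD0, zero_mul]
    · rw [if_neg hk, mul_zero]

/-- Commuting with `x 0 j` as equations between entries. -/
theorem entries_of_commute {g : SL5} {j : Fin 5} (hj : j ≠ 0) (h : g * x 0 j = x 0 j * g) (i k : Fin 5) :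
    (if k = j then (g : M5) i 0 else 0) = if i = 0 then (g : M5) j k else 0 := by
  have hx : (x 0 j : M5) = 1 + Matrix.single 0 j 1 := by
    simp [x, Ne.symm hj, Matrix.transvection]
  have h' := congrArg (fun t : SL5 => (t : M5) i k) h
  simp only [SpecialLinearGroup.coe_mul, hx, Matrix.mul_add, Matrix.add_mul, Matrix.mul_one, Matrix.one_mul,
    Matrix.add_apply, add_right_inj] at h'
  by_cases hi : i = 0 <;> by_cases hk : k = j <;> simp [hi, hk] at h' ⊢ <;> simp_all

theorem H0_le_st0 : H0 ≤ st0 := fun g hg => by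
  have he := entries_of_commute (j := 4) (by decide) ((mem_H0_iff g).1 hg)
  intro i
  by_cases hi : i = 0
  · subst hi
    rw [if_pos rfl]
    refine (Fin.forall_fin_two.2 ⟨fun h0 => ?_, fun _ => rfl⟩ : ∀ a : ZMod 2, (g : M5) 0 0 = a → a = 1)
      _ rfl
    exfalso
    have hdet := g.2
    rw [Matrix.det_eq_zero_of_column_eq_zero 0 (fun k => ?_)] at hdet
    · exact zero_ne_one hdet
    · by_cases hk : k = 0
      · subst hk; exact h0
      · simpa [hk] using he k 4
  · simpa [hi] using he i 4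

theorem mem_E1_of_commute {g : SL5} (hg : g ∈ st0) (h : ∀ j : Fin 5, j ≠ 0 → g * x 0 j = x 0 j * g) :
    g ∈ E1 := by
  refine inU_one_iff.2 ⟨fun i j hi => ?_, by simpa using hg 0⟩
  have := entries_of_commute hi (h i hi) 0 j
  rw [if_pos rfl, hg 0, if_pos rfl] at this
  rw [← this]
  exact if_congr eq_comm rfl rfl

theorem E1_le_H0 : E1 ≤ H0 := fun g hg => (mem_H0_iff g).2 (inU_comm hg tv_mem_E1)

/-- The elements with row 0 equal to `e₀`. -/
def rowSt : Subgroup SL5 where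
  carrier := {g | ∀ j, (g : M5) 0 j = if 0 = j then 1 else 0}
  one_mem' := fun j => by simp [Matrix.one_apply]
  mul_mem' := fun {g h} hg hh j => by rw [mul_row hg, hh j]
  inv_mem' := fun {g} hg j => by
    have h := mul_row hg g⁻¹ j
    rw [mul_inv_cancel] at h
    rw [← h]
    simp [Matrix.one_apply]

theorem exists_mul_rowSt {g : SL5} (hg : g ∈ st0) : ∃ e ∈ E1, g * e ∈ rowSt := by
  refine ⟨rv fun j => (g : M5) 0 j.succ, rv_mem _, fun j => ?_⟩
  rw [coe_mul_apply]
  by_cases hj : j = 0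
  · subst hj
    rw [Finset.sum_eq_single (0 : Fin 5)]
    · rw [hg 0, rv_entries]; simp
    · intro k _ hk; rw [rv_entries, if_neg hk, if_neg hk, mul_zero]
    · simp
  · obtain ⟨j', rfl⟩ := Fin.exists_succ_eq.2 hj
    rw [Finset.sum_eq_add (0 : Fin 5) j'.succ (Ne.symm hj), if_neg (Ne.symm hj)]
    · rw [hg 0, if_pos rfl, one_mul, rv_entries, rv_entries, if_pos rfl, if_neg (Ne.symm hj), if_pos rfl,
        Fin.cases_succ, mul_one, CharTwo.add_self_eq_zero]
    · intro k _ hk; rw [rv_entries, if_neg hk.2, if_neg hk.1, mul_zero]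
    · simp
    · simp

theorem eq_one_of_rowSt {g : SL5} (hg : g ∈ E1) (h : g ∈ rowSt) : g = 1 :=
  inU_ext hg inU_one_one fun j hj => by rw [h j]; simp [Matrix.one_apply]

/-- The matrix of an endomorphism of `E1` on the last four coordinates. -/
def autMat (φ : ↥E1 →* ↥E1) : M5 :=
  Matrix.of fun i j => if h : i = 0 then (if i = j then 1 else 0) else
    if j = 0 then 0 else ((φ ⟨x 0 i, x_mem_E1 i h⟩ : ↥E1) : M5) 0 j

theorem autMat_zero (φ : ↥E1 →* ↥E1) (j : Fin 5) : autMat φ 0 j = if 0 = j then 1 else 0 := by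
  simp [autMat]

theorem autMat_col (φ : ↥E1 →* ↥E1) (i : Fin 5) : autMat φ i 0 = if i = 0 then 1 else 0 := by
  by_cases hi : i = 0 <;> simp [autMat, hi]

theorem row_map (φ : ↥E1 →* ↥E1) (n : ↥E1) {j : Fin 5} (hj : j ≠ 0) :
    ((φ n : ↥E1) : M5) 0 j = ∑ i : Fin 4, (n : M5) 0 i.succ * autMat φ i.succ j := by
  let c : ↥E1 → ZMod 2 := fun m => ((φ m : ↥E1) : M5) 0 j
  have hadd : ∀ m m' : ↥E1, c (m * m') = c m + c m' := fun m m' => by
    show ((φ (m * m') : ↥E1) : M5) 0 j = _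
    rw [map_mul]
    exact inU_mul_row (φ m).2 (φ m').2 hj
  have h1 : c 1 = 0 := by simp [c, Ne.symm hj]
  let g : Fin 4 → ↥E1 := fun i => ⟨x 0 i.succ, x_mem_E1 _ (Fin.succ_ne_zero i)⟩
  have hg : ∀ i : Fin 4, c (g i) = autMat φ i.succ j := fun i => by
    simp [c, g, autMat, Fin.succ_ne_zero, hj]
  set a : Fin 4 → ZMod 2 := fun i => (n : M5) 0 i.succ with ha
  have hn : n = (if a 0 = 1 then g 0 else 1) * (if a 1 = 1 then g 1 else 1) *
      (if a 2 = 1 then g 2 else 1) * (if a 3 = 1 then g 3 else 1) := by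
    refine Subtype.ext ((eq_rv n.2).trans ?_)
    simp only [rv, Subgroup.coe_mul, apply_ite (Subtype.val : ↥E1 → SL5), OneMemClass.coe_one, g, a]
    rfl
  have hi : ∀ i : Fin 4, c (if a i = 1 then g i else 1) = a i * autMat φ i.succ j := by
    intro i
    have h01 : a i = 0 ∨ a i = 1 := (Fin.forall_fin_two.2 ⟨Or.inl rfl, Or.inr rfl⟩ :
      ∀ b : ZMod 2, b = 0 ∨ b = 1) _
    rcases h01 with e | e
    · rw [e, if_neg zero_ne_one, h1, zero_mul]
    · rw [e, if_pos rfl, hg, one_mul]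
  show c n = _
  rw [hn, hadd, hadd, hadd, hi, hi, hi, hi, Fin.sum_univ_four, ← hn]

theorem autMat_comp (φ χ : ↥E1 →* ↥E1) : autMat (φ.comp χ) = autMat χ * autMat φ := by
  ext i j
  rw [Matrix.mul_apply]
  by_cases hi : i = 0
  · subst hi
    rw [Finset.sum_eq_single (0 : Fin 5)]
    · simp [autMat_zero]
    · intro k _ hk; simp [autMat_zero, Ne.symm hk]
    · simp
  by_cases hj : j = 0
  · subst hj
    rw [Finset.sum_eq_single (0 : Fin 5)]
    · simp [autMat_col, hi]
    · intro k _ hk; simp [autMat_col, hk]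
    · simp
  rw [Fin.sum_univ_succ, autMat_col χ i, if_neg hi, zero_mul, zero_add]
  have h := row_map φ (χ ⟨x 0 i, x_mem_E1 i hi⟩) hj
  simp only [autMat, Matrix.of_apply, dif_neg hi, if_neg hj, MonoidHom.comp_apply,
    if_neg (Fin.succ_ne_zero _), dif_neg (Fin.succ_ne_zero _)] at h ⊢
  exact h

theorem autMat_id : autMat (MonoidHom.id ↥E1) = 1 := by
  ext i j
  by_cases hi : i = 0
  · subst hi; simp [autMat_zero, Matrix.one_apply]
  by_cases hj : j = 0
  · subst hj; simp [autMat_col, Matrix.one_apply]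
  simp [autMat, hi, hj, Matrix.one_apply, x_row i j hi hj]

theorem eq_id_of_autMat {φ : ↥E1 →* ↥E1} (h : autMat φ = 1) (n : ↥E1) : φ n = n := by
  refine Subtype.ext (inU_ext (φ n).2 n.2 fun j hj => ?_)
  rw [row_map φ n hj, h]
  obtain ⟨j', rfl⟩ := Fin.exists_succ_eq.2 hj
  rw [Finset.sum_eq_single j']
  · rw [Matrix.one_apply_eq, mul_one]
  · intro k _ hk; rw [Matrix.one_apply_ne (fun e => hk (Fin.succ_injective _ e)), mul_zero]
  · simp

variable {K : Type*} [Group K] (α : K →* MulAut ↥E1)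

/-- An action on `E1` as block matrices fixing `e₀`. -/
def blockHom : K →* SL5 where
  toFun k := ⟨autMat (α k⁻¹).toMonoidHom, by
    have h : autMat (α k⁻¹).toMonoidHom * autMat (α k).toMonoidHom = 1 := by
      rw [← autMat_comp, ← autMat_id]
      congr 1
      ext n
      show ((α k (α k⁻¹ n) : ↥E1) : M5) _ _ = _
      rw [← MulAut.mul_apply, ← map_mul, mul_inv_cancel, map_one]
      rfl
    have hd := congrArg Matrix.det h
    rw [Matrix.det_mul, Matrix.det_one] at hd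
    refine (Fin.forall_fin_two.2 ⟨fun h0 => ?_, fun _ => rfl⟩ :
      ∀ a : ZMod 2, (autMat (α k⁻¹).toMonoidHom).det = a → a = 1) _ rfl
    exfalso
    rw [h0] at hd
    exact zero_ne_one ((zero_mul (M₀ := ZMod 2) _).symm.trans hd)⟩
  map_one' := Subtype.ext (by
    show autMat (α 1⁻¹).toMonoidHom = 1
    rw [inv_one, map_one, ← autMat_id]
    rfl)
  map_mul' k l := Subtype.ext (by
    show autMat (α (k * l)⁻¹).toMonoidHom = autMat (α k⁻¹).toMonoidHom * autMat (α l⁻¹).toMonoidHom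
    rw [← autMat_comp, mul_inv_rev, map_mul]
    rfl)

theorem coe_blockHom (k : K) : ((blockHom α k : SL5) : M5) = autMat (α k⁻¹).toMonoidHom := rfl

theorem blockHom_mem_st0 (k : K) : blockHom α k ∈ st0 := fun i => autMat_col _ i

theorem blockHom_mem_rowSt (k : K) : blockHom α k ∈ rowSt := fun j => autMat_zero _ j

theorem blockHom_conj (k : K) (n : ↥E1) : blockHom α k * n * (blockHom α k)⁻¹ = α k n := by
  rw [mul_inv_eq_iff_eq_mul]
  have hr : ∀ i, i ≠ 0 → ∀ j, ((α k n : SL5) : M5) i j = if i = j then 1 else 0 :=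
    fun i hi j => (inU_one_iff.1 (α k n).2).1 i j hi
  refine Subtype.ext (Matrix.ext fun i j => ?_)
  by_cases hi : i = 0
  · subst hi
    rw [mul_row (blockHom_mem_rowSt α k), coe_mul_apply, Fin.sum_univ_succ, coe_blockHom, autMat_zero]
    by_cases hj : j = 0
    · subst hj
      rw [if_pos rfl, (inU_one_iff.1 n.2).2, (inU_one_iff.1 (α k n).2).2]
      simp [autMat_col, Fin.succ_ne_zero]
    · rw [if_neg (Ne.symm hj), mul_zero, zero_add]
      have h := row_map (α k⁻¹).toMonoidHom (α k n) hj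
      rw [MulEquiv.coe_toMonoidHom, ← MulAut.mul_apply, ← map_mul, inv_mul_cancel, map_one] at h
      exact h
  · rw [mul_row (fun m => hr i hi m), coe_mul_apply, Finset.sum_eq_single j]
    · by_cases hj : j = 0
      · subst hj; rw [(inU_one_iff.1 n.2).2, mul_one]
      · rw [(inU_one_iff.1 n.2).1 j j hj, if_pos rfl, mul_one]
    · intro m _ hm
      by_cases hm0 : m = 0
      · subst hm0; rw [coe_blockHom, autMat_col, if_neg hi, zero_mul]
      · rw [(inU_one_iff.1 n.2).1 m j hm0, if_neg hm, mul_zero]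
    · simp

theorem fixed_of_blockHom {k : K} (h : blockHom α k = 1) (n : ↥E1) : α k n = n := by
  refine Subtype.ext ?_
  rw [← blockHom_conj α k n, h]
  group

/-- Facts on the element `x 1 2` of `H0`. -/
theorem w_facts : (∀ a : Fin 4 → ZMod 2, repM 2 * rv a * repM 2 = rv a ∨ repM 2 * rv a * repM 2 = x 0 2 * rv a)
    ∧ repM 2 * x 0 1 * repM 2 = x 0 2 * x 0 1 ∧ repM 2 * x 0 2 * repM 2 = x 0 2 ∧ repM 2 * repM 2 = 1
    ∧ repM 2 ≠ 1 ∧ x 0 2 ≠ 1 ∧ x 0 2 ≠ tv ∧ repM 1 = tv ∧ (∀ k : Fin 8, InU 1 (repM k) → k ∈ [0, 1])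
    ∧ InU 1 (repM 0) := by
  refine ⟨?_, ?_, ?_, ?_, ?_, ?_, ?_, ?_, fun k hk => ?_, ?_⟩
  iterate 8 decide +kernel
  · have h : ∀ k : Fin 8, (∀ i j : Fin 5, i ≠ 0 → ent (repM k) i j = if i = j then 1 else 0) →
        k ∈ [0, 1] := by decide +kernel
    exact h k fun i j hi => (inU_one_iff.1 hk).1 i j hi
  · exact mem_E1.1 (x_mem_E1 1 (by decide))

end Cfsg.Agent.L52Cent
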