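import Mathlib.GroupTheory.SemidirectProduct
import Mathlib.GroupTheory.OrderOfElement
import Cfsg.Agent.Lib.L52Cent.AffineModel
import Cfsg.Agent.Lib.Coprime.Gaschutz
import Cfsg.Agent.Lib.LocalStructure.Basic

/-!
# The affine case: only the transvections with centre `e₀` are fused to `z` (S1716)

The conjugates of `z` in `C(z)` form `E#`, so commuting conjugates form cliques.  Two conjugates in
different cliques have a product of odd order; with an involution over a transvection of `GL₄(2)` this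
forces `E ⊴ G`, and `G ≅ E : GL₄(2)`, the stabiliser of a vector in `SL₅(2)`.
-/

set_option autoImplicit false
set_option linter.unusedSectionVars false

namespace Cfsg.Agent.L52Cent

open Subgroup

/-! ### Two involutions -/

theorem conj_reflection {K : Type*} [Group K] {a b : K} (ha : a * a = 1) (hb : b * b = 1) (i : ℕ) :
    (a * b) ^ i * a * ((a * b) ^ i)⁻¹ = (a * b) ^ (2 * i) * a := by
  have hab : SemiconjBy a (a * b) (a * b)⁻¹ := by
    show a * (a * b) = (a * b)⁻¹ * a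
    rw [mul_inv_rev, inv_eq_of_mul_eq_one_right ha, inv_eq_of_mul_eq_one_right hb, ← mul_assoc, ha,
      one_mul, mul_assoc, ha, mul_one]
  have h := hab.pow_right i
  rw [inv_pow] at h
  have h' : a * ((a * b) ^ i)⁻¹ = (a * b) ^ i * a := by
    calc a * ((a * b) ^ i)⁻¹ = (a * b) ^ i * (((a * b) ^ i)⁻¹ * a) * ((a * b) ^ i)⁻¹ := by group
      _ = (a * b) ^ i * (a * (a * b) ^ i) * ((a * b) ^ i)⁻¹ := by rw [h.eq]
      _ = (a * b) ^ i * a := by group
  rw [mul_assoc, h', ← mul_assoc, ← pow_add, two_mul]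

theorem exists_conj_of_odd {K : Type*} [Group K] [Finite K] {a b : K} (ha : a * a = 1) (hb : b * b = 1)
    (hn : Odd (orderOf (a * b))) {U : Subgroup K} (haU : a ∈ U) (hbU : b ∈ U) :
    ∃ g ∈ U, g * a * g⁻¹ = b := by
  obtain ⟨l, hl⟩ := hn
  refine ⟨(a * b) ^ l, pow_mem (mul_mem haU hbU) l, ?_⟩
  have h1 : (a * b) ^ (2 * l) * (a * b) = 1 := by rw [← pow_succ, ← hl, pow_orderOf_eq_one]
  rw [conj_reflection ha hb, eq_inv_of_mul_eq_one_left h1, mul_inv_rev, inv_eq_of_mul_eq_one_right ha,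
    inv_eq_of_mul_eq_one_right hb, mul_assoc, ha, mul_one]

/-- With a central involution `(a b) ^ m`, `m` odd, `(a b) ^ m * a` is conjugate to `b`. -/
theorem isConj_odd_reflection {K : Type*} [Group K] {a b : K} (ha : a * a = 1) (hb : b * b = 1) {m : ℕ}
    (hm : Odd m) : IsConj b ((a * b) ^ m * a) := by
  obtain ⟨l, rfl⟩ := hm
  refine isConj_iff.2 ⟨(a * b) ^ l * a, ?_⟩
  calc (a * b) ^ l * a * b * ((a * b) ^ l * a)⁻¹
      = (a * b) ^ l * (a * b) * (a⁻¹ * ((a * b) ^ l)⁻¹) := by group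
    _ = (a * b) ^ l * (a * b) * (a * ((a * b) ^ l)⁻¹) := by rw [inv_eq_of_mul_eq_one_right ha]
    _ = (a * b) * ((a * b) ^ l * a * ((a * b) ^ l)⁻¹) := by
      rw [((Commute.refl (a * b)).pow_left l).eq]; group
    _ = (a * b) ^ (2 * l + 1) * a := by rw [conj_reflection ha hb, ← mul_assoc, ← pow_succ']

/-- An element fixing a point of an elementary abelian group after squaring fixes one. -/
theorem exists_fixed {K : Type*} [Group K] {E : Subgroup K} (hc : ∀ u ∈ E, ∀ v ∈ E, u * v = v * u)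
    (hs : ∀ u ∈ E, u * u = 1) {d s : K} (hd : d ∈ normalizer (E : Set K)) (hsE : s ∈ E) (hs1 : s ≠ 1)
    (h2 : d * d * s * (d * d)⁻¹ = s) : ∃ t ∈ E, t ≠ 1 ∧ d * t * d⁻¹ = t ∧
      ∀ c, Commute c s → Commute c d → Commute c t := by
  have hd' : d * s * d⁻¹ ∈ E := (mem_normalizer_iff.1 hd s).1 hsE
  by_cases h : d * s * d⁻¹ = s
  · exact ⟨s, hsE, hs1, h, fun c hc _ => hc⟩
  refine ⟨s * (d * s * d⁻¹), mul_mem hsE hd', fun e => h ?_, ?_, fun c hc1 hc2 => ?_⟩
  · rw [eq_inv_of_mul_eq_one_right e, inv_eq_of_mul_eq_one_right (hs s hsE)]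
  · calc d * (s * (d * s * d⁻¹)) * d⁻¹ = (d * s * d⁻¹) * (d * d * s * (d * d)⁻¹) := by group
      _ = s * (d * s * d⁻¹) := by rw [h2, hc _ hd' _ hsE]
  · exact hc1.mul_right ((hc2.mul_right hc1).mul_right hc2.inv_right)

theorem mul_comm_of_conj_eq {K : Type*} [Group K] {a b t : K} (h : a * t * a⁻¹ = b * t * b⁻¹) :
    a⁻¹ * b * t = t * (a⁻¹ * b) := by
  calc a⁻¹ * b * t = a⁻¹ * (b * t * b⁻¹) * b := by group
    _ = t * (a⁻¹ * b) := by rw [← h]; group

theorem conj_ne_one {K : Type*} [Group K] {U : Subgroup K} {g t : K} (h : g * t * g⁻¹ ∈ U) (ht : t ≠ 1) :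
    (⟨g * t * g⁻¹, h⟩ : ↥U) ≠ 1 := fun e => ht (conj_eq_one_iff.1 (congrArg Subtype.val e))

namespace Setup

variable {G : Type*} [Group G] (S : Setup G)

/-- The image of `E1`. -/
def EG : Subgroup G := (E1.subgroupOf H0).map S.ι

/-- Every involution of `C(z)` is conjugate in `C(z)` to a representative. -/
def Covered : Prop := ∀ g ∈ centralizer ({S.z} : Set G), orderOf g = 2 →
  ∃ k c, c ∈ centralizer ({S.z} : Set G) ∧ c * S.ι (rep k) * c⁻¹ = g

theorem mem_EG {g : G} : g ∈ S.EG ↔ ∃ h : H0, (h : SL5) ∈ E1 ∧ S.ι h = g :=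
  ⟨fun ⟨h, hh, e⟩ => ⟨h, hh, e⟩, fun ⟨h, hh, e⟩ => ⟨h, hh, e⟩⟩

theorem ι_mem (h : H0) : S.ι h ∈ centralizer ({S.z} : Set G) := S.range_eq ▸ ⟨h, rfl⟩

theorem exists_ι {g : G} (hg : g ∈ centralizer ({S.z} : Set G)) : ∃ h, S.ι h = g := by
  rwa [← S.range_eq] at hg

theorem EG_le : S.EG ≤ centralizer ({S.z} : Set G) := fun g hg => by
  obtain ⟨h, -, rfl⟩ := S.mem_EG.1 hg; exact S.ι_mem h

theorem z_mem_EG : S.z ∈ S.EG :=
  S.mem_EG.2 ⟨rep 1, by show repM 1 ∈ E1; exact tv_mem_E1, S.ι_one⟩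

theorem z_ne_one : S.z ≠ 1 := fun h => tv_ne_one
  (congrArg Subtype.val (S.injective (S.ι_one.trans (h.trans (map_one S.ι).symm))) : repM 1 = 1)

theorem EG_sq : ∀ u ∈ S.EG, u * u = 1 := fun u hu => by
  obtain ⟨h, hh, rfl⟩ := S.mem_EG.1 hu
  rw [← map_mul, show h * h = 1 from Subtype.ext (inU_sq hh), map_one]

theorem EG_comm : ∀ u ∈ S.EG, ∀ v ∈ S.EG, u * v = v * u := fun u hu v hv => by
  obtain ⟨h, hh, rfl⟩ := S.mem_EG.1 hu
  obtain ⟨k, hk, rfl⟩ := S.mem_EG.1 hv
  rw [← map_mul, ← map_mul, show h * k = k * h from Subtype.ext (inU_comm hh hk)]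

theorem conj_mem_EG {c g : G} (hc : c ∈ centralizer ({S.z} : Set G)) (hg : g ∈ S.EG) :
    c * g * c⁻¹ ∈ S.EG := by
  obtain ⟨h, hh, rfl⟩ := S.mem_EG.1 hg
  obtain ⟨k, rfl⟩ := S.exists_ι hc
  exact S.mem_EG.2 ⟨k * h * k⁻¹, conj_mem_E1 (H0_le_st0 k.2) hh, by simp⟩

variable [Finite G] (hcov : S.Covered) (hA : S.IsAffineCase)

include hcov hA

theorem isConj_of_mem_EG {v : G} (hv : v ∈ S.EG) (h1 : v ≠ 1) : IsConj S.z v := by
  have h2 : orderOf v = 2 := orderOf_eq_prime (by rw [pow_two]; exact S.EG_sq v hv) h1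
  obtain ⟨k, c, hc, rfl⟩ := hcov v (S.EG_le hv) h2
  have hk : S.ι (rep k) ∈ S.EG := by
    have := S.conj_mem_EG (inv_mem hc) hv
    rwa [show c⁻¹ * (c * S.ι (rep k) * c⁻¹) * c⁻¹⁻¹ = S.ι (rep k) by group] at this
  obtain ⟨h, hh, he⟩ := S.mem_EG.1 hk
  obtain rfl := S.injective he
  have hf : S.fus k := (hA k).2 (w_facts.2.2.2.2.2.2.2.2.1 k hh)
  exact IsConj.trans hf (isConj_iff.2 ⟨c, rfl⟩)

/-- The conjugates of `z` in `C(z)` lie in `E`. -/
theorem mem_EG_of_isConj {v : G} (hv : v ∈ centralizer ({S.z} : Set G)) (hc : IsConj S.z v) :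
    v ∈ S.EG := by
  obtain ⟨g, rfl⟩ := isConj_iff.1 hc
  have h1 : g * S.z * g⁻¹ ≠ 1 := fun h => S.z_ne_one (conj_eq_one_iff.1 h)
  have h2 : orderOf (g * S.z * g⁻¹) = 2 := orderOf_eq_prime (by
    rw [pow_two, show g * S.z * g⁻¹ * (g * S.z * g⁻¹) = g * (S.z * S.z) * g⁻¹ by group,
      S.EG_sq _ S.z_mem_EG]
    group) h1
  obtain ⟨k, c, hc', he⟩ := hcov _ hv h2
  have hfus : S.fus k := IsConj.trans (isConj_iff.2 ⟨g, he.symm⟩) (isConj_iff.2 ⟨c⁻¹, by group⟩)
  rw [← he]
  refine S.conj_mem_EG hc' (S.mem_EG.2 ⟨rep k, ?_, rfl⟩)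
  have hk := (hA k).1 hfus
  simp only [List.mem_cons, List.not_mem_nil, or_false] at hk
  rcases hk with rfl | rfl
  · exact w_facts.2.2.2.2.2.2.2.2.2
  · exact tv_mem_E1

/-- A conjugator of `z` into `E` normalises `E`. -/
theorem mem_normalizer_of_conj {g : G} (hg : g * S.z * g⁻¹ ∈ S.EG) :
    g ∈ normalizer (S.EG : Set G) := by
  have hle : S.EG.map (MulAut.conj g⁻¹).toMonoidHom ≤ S.EG := by
    rintro _ ⟨e, he, rfl⟩
    show g⁻¹ * e * g⁻¹⁻¹ ∈ S.EG
    by_cases h1 : e = 1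
    · subst h1; rw [mul_one, mul_inv_cancel]; exact one_mem _
    refine S.mem_EG_of_isConj hcov hA (mem_centralizer_singleton_iff.2 ?_)
      ((S.isConj_of_mem_EG hcov hA he h1).trans (isConj_iff.2 ⟨g⁻¹, rfl⟩))
    calc g⁻¹ * e * g⁻¹⁻¹ * S.z = g⁻¹ * (e * (g * S.z * g⁻¹)) * g := by group
      _ = g⁻¹ * ((g * S.z * g⁻¹) * e) * g := by rw [S.EG_comm e he _ hg]
      _ = S.z * (g⁻¹ * e * g⁻¹⁻¹) := by group
  simpa using inv_mem (LocalStructure.mem_normalizer_of_map_conj_le hle)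

theorem centralizer_le_normalizer : centralizer ({S.z} : Set G) ≤ normalizer (S.EG : Set G) :=
  fun c hc => S.mem_normalizer_of_conj hcov hA (by
    rw [mem_centralizer_singleton_iff.1 hc, mul_inv_cancel_right]; exact S.z_mem_EG)

/-- A conjugate of `z` commuting with a nontrivial element of `E` is in `E`. -/
theorem mem_EG_of_commute {d v : G} (hd : d ∈ S.EG) (h1 : d ≠ 1) (hv : IsConj S.z v)
    (hc : Commute d v) : v ∈ S.EG := by
  obtain ⟨k, rfl⟩ := isConj_iff.1 (S.isConj_of_mem_EG hcov hA hd h1)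
  have h2 := S.mem_EG_of_isConj hcov hA (v := k⁻¹ * v * k) (mem_centralizer_singleton_iff.2 (by
    calc k⁻¹ * v * k * S.z = k⁻¹ * (v * (k * S.z * k⁻¹)) * k := by group
      _ = k⁻¹ * ((k * S.z * k⁻¹) * v) * k := by rw [hc.eq]
      _ = S.z * (k⁻¹ * v * k) := by group)) (hv.trans (isConj_iff.2 ⟨k⁻¹, by group⟩))
  have := (mem_normalizer_iff.1 (S.mem_normalizer_of_conj hcov hA hd) _).1 h2
  rwa [show k * (k⁻¹ * v * k) * k⁻¹ = v by group] at this

/-- The conjugates of `z` in `N(E)` lie in `E`. -/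
theorem mem_EG_of_normalizer {u : G} (hu : u ∈ normalizer (S.EG : Set G)) (hc : IsConj S.z u) :
    u ∈ S.EG := by
  obtain ⟨g, rfl⟩ := isConj_iff.1 hc
  obtain ⟨t, ht, ht1, htf, -⟩ := exists_fixed S.EG_comm S.EG_sq hu S.z_mem_EG S.z_ne_one (by
    rw [show g * S.z * g⁻¹ * (g * S.z * g⁻¹) = g * (S.z * S.z) * g⁻¹ by group,
      S.EG_sq _ S.z_mem_EG]
    group)
  exact S.mem_EG_of_commute hcov hA ht ht1 hc (mul_inv_eq_iff_eq_mul.1 htf : Commute _ t).symm

theorem mem_normalizer_of_conj_mem {e g : G} (he : e ∈ S.EG) (he1 : e ≠ 1)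
    (hge : g * e * g⁻¹ ∈ normalizer (S.EG : Set G)) : g ∈ normalizer (S.EG : Set G) := by
  obtain ⟨k, rfl⟩ := isConj_iff.1 (S.isConj_of_mem_EG hcov hA he he1)
  rw [show g * (k * S.z * k⁻¹) * g⁻¹ = g * k * S.z * (g * k)⁻¹ by group] at hge
  have h1 := S.mem_normalizer_of_conj hcov hA
    (S.mem_EG_of_normalizer hcov hA hge (isConj_iff.2 ⟨_, rfl⟩))
  have h2 := mul_mem h1 (inv_mem (S.mem_normalizer_of_conj hcov hA he))
  rwa [mul_inv_cancel_right] at h2

/-- Conjugates in different cliques have a product of odd order. -/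
theorem odd_product {a y : G} (ha : a ∈ S.EG) (ha1 : a ≠ 1) (hy : IsConj S.z y) (hyE : y ∉ S.EG) :
    Odd (orderOf (a * y)) := by
  have ha2 := S.EG_sq a ha
  have hy2 : y * y = 1 := by
    obtain ⟨g, rfl⟩ := isConj_iff.1 hy
    rw [show g * S.z * g⁻¹ * (g * S.z * g⁻¹) = g * (S.z * S.z) * g⁻¹ by group, S.EG_sq _ S.z_mem_EG]
    group
  rw [← Nat.not_even_iff_odd]
  rintro ⟨m, hm⟩
  set r := a * y with hr
  set c := r ^ m with hc
  have hcc : c * c = 1 := by rw [hc, ← pow_add, ← hm, pow_orderOf_eq_one]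
  have hc1 : c ≠ 1 := fun h => by
    have hpos := orderOf_pos r
    exact Nat.not_dvd_of_pos_of_lt (by omega) (by omega) (orderOf_dvd_of_pow_eq_one h)
  have hca : Commute a c := by
    have h := conj_reflection ha2 hy2 m
    rw [← hr, show 2 * m = orderOf r by omega, pow_orderOf_eq_one, one_mul] at h
    exact (mul_inv_eq_iff_eq_mul.1 h : c * a = a * c).symm
  have hcy : Commute y c := by
    have h : Commute r c := (Commute.refl r).pow_right m
    have := hca.mul_left h
    rwa [hr, ← mul_assoc, ha2, one_mul] at this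
  have hconj : IsConj S.z (c * a) := by
    rcases Nat.even_or_odd m with ⟨i, hi⟩ | ho
    · refine (S.isConj_of_mem_EG hcov hA ha ha1).trans (isConj_iff.2 ⟨r ^ i, ?_⟩)
      rw [hr, conj_reflection ha2 hy2, ← hr, hc, hi, two_mul]
    · exact hy.trans (isConj_odd_reflection ha2 hy2 ho)
  have hcaE := S.mem_EG_of_commute hcov hA ha ha1 hconj (hca.mul_right (Commute.refl a))
  have hcE : c ∈ S.EG := by
    have := mul_mem hcaE (inv_mem ha)
    rwa [mul_inv_cancel_right] at this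
  exact hyE (S.mem_EG_of_commute hcov hA hcE hc1 hy hcy.symm)

/-- `C(c) ≤ N(E)` when `c` fixes two elements of `E`, one the only value of its commutators on `E`. -/
theorem centralizer_le_of_distinguished {c e e' n : G} (he : e ∈ S.EG) (he1 : e ≠ 1) (hce : Commute c e)
    (he' : e' ∈ S.EG) (he'1 : e' ≠ 1) (hne : e' ≠ e) (hce' : Commute c e') (hn : n ∈ S.EG)
    (hcn : c * n * c⁻¹ = e * n) (himg : ∀ u ∈ S.EG, c * u * c⁻¹ = u ∨ c * u * c⁻¹ = e * u) :
    centralizer ({c} : Set G) ≤ normalizer (S.EG : Set G) := by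
  have hfix : ∀ g, Commute g c → g ∈ normalizer (S.EG : Set G) → g * e * g⁻¹ = e := by
    intro g hgc hgN
    have hu : g * n * g⁻¹ ∈ S.EG := (mem_normalizer_iff.1 hgN n).1 hn
    have h1 : c * (g * n * g⁻¹) * c⁻¹ = g * e * g⁻¹ * (g * n * g⁻¹) := by
      calc c * (g * n * g⁻¹) * c⁻¹ = (c * g) * n * (c * g)⁻¹ := by group
        _ = g * (c * n * c⁻¹) * g⁻¹ := by rw [← hgc.eq]; group
        _ = g * e * g⁻¹ * (g * n * g⁻¹) := by rw [hcn]; group
    rcases himg _ hu with h | h <;> rw [h] at h1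
    · exact absurd (conj_eq_one_iff.1 (mul_eq_right.1 h1.symm)) he1
    · exact (mul_right_cancel h1).symm
  intro g hg
  have hgc : Commute g c := mem_centralizer_singleton_iff.1 hg
  set y := g * e * g⁻¹ with hy
  have hyconj : IsConj S.z y := (S.isConj_of_mem_EG hcov hA he he1).trans (isConj_iff.2 ⟨g, rfl⟩)
  have hyc : Commute c y := (hgc.symm.mul_right hce).mul_right hgc.symm.inv_right
  refine S.mem_normalizer_of_conj_mem hcov hA he he1 (le_normalizer ?_)
  rw [← hy]
  by_contra hyE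
  have hy2 : y * y = 1 := by
    rw [hy, show g * e * g⁻¹ * (g * e * g⁻¹) = g * (e * e) * g⁻¹ by group, S.EG_sq e he]; group
  have hC : ∀ {u}, Commute c u → u ∈ centralizer ({c} : Set G) := fun h =>
    mem_centralizer_singleton_iff.2 h.eq.symm
  obtain ⟨g1, hg1, hg1e⟩ := exists_conj_of_odd (S.EG_sq e he) hy2
    (S.odd_product hcov hA he he1 hyconj hyE) (hC hce) (hC hyc)
  obtain ⟨g2, hg2, hg2e⟩ := exists_conj_of_odd (S.EG_sq e' he') hy2
    (S.odd_product hcov hA he' he'1 hyconj hyE) (hC hce') (hC hyc)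
  have hh : g2⁻¹ * g1 * e * (g2⁻¹ * g1)⁻¹ = e' := by
    calc g2⁻¹ * g1 * e * (g2⁻¹ * g1)⁻¹ = g2⁻¹ * (g1 * e * g1⁻¹) * g2 := by group
      _ = g2⁻¹ * (g2 * e' * g2⁻¹) * g2 := by rw [hg1e, hg2e]
      _ = e' := by group
  refine hne (hh.symm.trans (hfix _ ?_ ?_))
  · exact mem_centralizer_singleton_iff.1 (mul_mem (inv_mem hg2) hg1)
  · refine S.mem_normalizer_of_conj_mem hcov hA he he1 ?_
    rw [hh]
    exact le_normalizer he'

/-- `E` is normal in `G`. -/
theorem normalizer_EG : normalizer (S.EG : Set G) = ⊤ := by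
  suffices key : ∀ y, IsConj S.z y → y ∈ S.EG from
    eq_top_iff.2 fun g _ => S.mem_normalizer_of_conj hcov hA (key _ (isConj_iff.2 ⟨g, rfl⟩))
  intro y hy
  by_contra hyE
  obtain ⟨f1, f2, f3, f4, f5, f6, f7, f8, -, -⟩ := w_facts
  set w := S.ι (rep 2) with hw
  have hwH : w ∈ centralizer ({S.z} : Set G) := S.ι_mem _
  have hwz : Commute w S.z := mem_centralizer_singleton_iff.1 hwH
  have hw2 : w * w = 1 := by
    rw [hw, ← map_mul, show rep 2 * rep 2 = 1 from Subtype.ext f4, map_one]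
  have hw1 : w ≠ 1 := fun h => f5
    (congrArg Subtype.val (S.injective (h.trans (map_one S.ι).symm)) : repM 2 = 1)
  have hwfus : ¬ IsConj S.z w := fun h => by
    have := (hA 2).1 h
    simp at this
  set eH : H0 := ⟨x 0 2, E1_le_H0 (x_mem_E1 2 (by decide))⟩ with heH
  set nH : H0 := ⟨x 0 1, E1_le_H0 (x_mem_E1 1 (by decide))⟩ with hnH
  set e := S.ι eH with he
  set n := S.ι nH with hn
  have hwi : w⁻¹ = w := inv_eq_of_mul_eq_one_right hw2
  have hwconj : ∀ (h h' : H0), repM 2 * h * repM 2 = h' → w * S.ι h * w⁻¹ = S.ι h' := fun h h' e => by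
    rw [hwi, hw, ← map_mul, ← map_mul]; exact congrArg S.ι (Subtype.ext e)
  have heE : e ∈ S.EG := S.mem_EG.2 ⟨eH, x_mem_E1 2 (by decide), rfl⟩
  have hnE : n ∈ S.EG := S.mem_EG.2 ⟨nH, x_mem_E1 1 (by decide), rfl⟩
  have he1 : e ≠ 1 := fun h => f6 (congrArg Subtype.val (S.injective (h.trans (map_one S.ι).symm)))
  have hez : S.z ≠ e := fun h => f7 ((congrArg Subtype.val
    (S.injective (h.symm.trans S.ι_one.symm))).trans f8)
  have hwe : Commute w e := mul_inv_eq_iff_eq_mul.1 (hwconj eH eH f3)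
  have hwn : w * n * w⁻¹ = e * n :=
    (hwconj nH (eH * nH) f2).trans (map_mul S.ι eH nH)
  have himg : ∀ u ∈ S.EG, w * u * w⁻¹ = u ∨ w * u * w⁻¹ = e * u := by
    intro u hu
    obtain ⟨h, hh, rfl⟩ := S.mem_EG.1 hu
    rcases f1 (fun j => (h : SL5).1 0 j.succ) with r | r <;> rw [← eq_rv hh] at r
    · exact Or.inl (hwconj _ _ r)
    · exact Or.inr ((hwconj h (eH * h) r).trans (map_mul S.ι eH h))
  -- the elements of the coset `w E` act as `w`
  have hcent : ∀ e0 ∈ S.EG, centralizer ({w * e0} : Set G) ≤ normalizer (S.EG : Set G) := by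
    intro e0 he0
    have hact : ∀ u ∈ S.EG, w * e0 * u * (w * e0)⁻¹ = w * u * w⁻¹ := fun u hu => by
      rw [show w * e0 * u * (w * e0)⁻¹ = w * (e0 * u * e0⁻¹) * w⁻¹ by group, S.EG_comm e0 he0 u hu]
      group
    refine S.centralizer_le_of_distinguished hcov hA heE he1 ?_ S.z_mem_EG S.z_ne_one hez ?_ hnE
      (by rw [hact n hnE, hwn]) (fun u hu => by rw [hact u hu]; exact himg u hu)
    · exact hwe.mul_left (S.EG_comm e0 he0 e heE)
    · exact hwz.mul_left (S.EG_comm e0 he0 _ S.z_mem_EG)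
  have hCw : centralizer ({w} : Set G) ≤ normalizer (S.EG : Set G) := by
    simpa using hcent 1 (one_mem _)
  obtain ⟨g, rfl⟩ := isConj_iff.1 hy
  set y := g * S.z * g⁻¹ with hydef
  have hy2 : y * y = 1 := by
    rw [hydef, show g * S.z * g⁻¹ * (g * S.z * g⁻¹) = g * (S.z * S.z) * g⁻¹ by group,
      S.EG_sq _ S.z_mem_EG]
    group
  set r := w * y with hr
  obtain ⟨m, hm⟩ : Even (orderOf r) := by
    rw [← Nat.not_odd_iff_even]
    intro ho
    obtain ⟨k, -, hk⟩ := exists_conj_of_odd hw2 hy2 ho (mem_top _) (mem_top _)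
    exact hwfus (hy.trans (isConj_iff.2 ⟨k⁻¹, by rw [← hk]; group⟩))
  set c := r ^ m with hc
  have hcc : c * c = 1 := by rw [hc, ← pow_add, ← hm, pow_orderOf_eq_one]
  have hc1 : c ≠ 1 := fun h => by
    have hpos := orderOf_pos r
    exact Nat.not_dvd_of_pos_of_lt (by omega) (by omega) (orderOf_dvd_of_pow_eq_one h)
  have hwc : Commute w c := by
    have h := conj_reflection hw2 hy2 m
    rw [← hr, show 2 * m = orderOf r by omega, pow_orderOf_eq_one, one_mul] at h
    exact (mul_inv_eq_iff_eq_mul.1 h : c * w = w * c).symm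
  have hyc : Commute y c := by
    have h : Commute r c := (Commute.refl r).pow_right m
    have := hwc.mul_left h
    rwa [hr, ← mul_assoc, hw2, one_mul] at this
  have hcN : c ∈ normalizer (S.EG : Set G) := hCw (mem_centralizer_singleton_iff.2 hwc.eq.symm)
  rcases Nat.even_or_odd m with ⟨i, hi⟩ | ho
  · -- an element of order 4 inverted by `y`
    set d := r ^ i with hd
    have hdd : d * d = c := by rw [hd, hc, hi, pow_add]
    have hdw : d * w * d⁻¹ = c * w := by rw [hd, hr, conj_reflection hw2 hy2, ← hr, hc, hi, two_mul]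
    have hdc : Commute d c := (Commute.refl r).pow_pow i m
    obtain ⟨t, htE, ht1, htc, htw⟩ := exists_fixed S.EG_comm S.EG_sq hcN S.z_mem_EG S.z_ne_one
      (by rw [hcc]; group)
    have htw' : Commute w t := htw w hwz hwc
    have hdN : d ∈ normalizer (S.EG : Set G) := by
      refine S.mem_normalizer_of_conj_mem hcov hA htE ht1 (hCw (mem_centralizer_singleton_iff.2 ?_))
      have hct : Commute c t := mul_inv_eq_iff_eq_mul.1 htc
      have h1 : Commute (d * t * d⁻¹) (d * w * d⁻¹) := by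
        simpa using htw'.symm.map (MulAut.conj d).toMonoidHom
      have h2 : Commute (d * t * d⁻¹) c :=
        (hdc.mul_left hct.symm).mul_left hdc.inv_left
      rw [hdw] at h1
      have h3 := h2.mul_right h1
      rwa [← mul_assoc, hcc, one_mul] at h3
    obtain ⟨a, haE, ha1, had, -⟩ := exists_fixed S.EG_comm S.EG_sq hdN htE ht1 (by rw [hdd]; exact htc)
    have hyd : y * d * y⁻¹ = d⁻¹ := by
      have hab : SemiconjBy y r r⁻¹ := by
        show y * (w * y) = (w * y)⁻¹ * y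
        rw [mul_inv_rev, inv_eq_of_mul_eq_one_right hw2, inv_eq_of_mul_eq_one_right hy2]; group
      have h := hab.pow_right i
      rw [inv_pow, ← hd] at h
      rw [h.eq, mul_inv_cancel_right]
    have hyU : y ∈ normalizer (zpowers d : Set G) := by
      refine LocalStructure.mem_normalizer_of_map_conj_le ?_
      rintro _ ⟨u, hu, rfl⟩
      obtain ⟨j, rfl⟩ := mem_zpowers_iff.1 hu
      show y * d ^ j * y⁻¹ ∈ zpowers d
      rw [← conj_zpow, hyd]
      exact zpow_mem (inv_mem (mem_zpowers d)) j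
    have haU : a ∈ normalizer (zpowers d : Set G) := by
      have hcomm : Commute a d := (mul_inv_eq_iff_eq_mul.1 had : d * a = a * d).symm
      refine LocalStructure.mem_normalizer_of_map_conj_le ?_
      rintro _ ⟨u, hu, rfl⟩
      obtain ⟨j, rfl⟩ := mem_zpowers_iff.1 hu
      show a * d ^ j * a⁻¹ ∈ zpowers d
      rw [(hcomm.zpow_right j).eq, mul_inv_cancel_right]
      exact zpow_mem (mem_zpowers d) j
    obtain ⟨k, hkU, hk⟩ := exists_conj_of_odd (S.EG_sq a haE) hy2
      (S.odd_product hcov hA haE ha1 hy hyE) haU hyU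
    have hka : Commute y (k * d * k⁻¹) := by
      have hda : Commute d a := mul_inv_eq_iff_eq_mul.1 had
      rw [← hk]
      simpa using hda.symm.map (MulAut.conj k).toMonoidHom
    obtain ⟨j, hj⟩ : ∃ j : ℤ, d ^ j = k⁻¹ * d * k := by
      have := (mem_normalizer_iff.1 (inv_mem hkU) d).1 (mem_zpowers d)
      rw [inv_inv] at this
      exact mem_zpowers_iff.1 this
    have hyd' : Commute y d := by
      have h := hka.zpow_right j
      rwa [conj_zpow, hj, show k * (k⁻¹ * d * k) * k⁻¹ = d by group] at h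
    refine hc1 ?_
    have e2 : d = d⁻¹ := by
      rw [← hyd, hyd'.eq, mul_inv_cancel_right]
    rw [← hdd]
    calc d * d = d * d⁻¹ := by rw [← e2]
      _ = 1 := mul_inv_cancel d
  · -- `w c` is a conjugate of `z` in `N(E)`
    have hconj : IsConj S.z (c * w) := hy.trans (isConj_odd_reflection hw2 hy2 ho)
    have hE := S.mem_EG_of_normalizer hcov hA (hCw (mem_centralizer_singleton_iff.2
      (hwc.mul_right (Commute.refl w)).eq.symm)) hconj
    have hcwe : c = w * (c * w) := by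
      rw [← mul_assoc, hwc.eq, mul_assoc, hw2, mul_one]
    exact hyE (S.mem_EG_of_normalizer hcov hA (hcent _ hE (by
      rw [← hcwe]; exact mem_centralizer_singleton_iff.2 hyc.eq)) hy)

/-- The affine case. -/
theorem affine : ∃ v : Fin 5 → ZMod 2, v ≠ 0 ∧ Nonempty (G ≃* MulAction.stabilizer SL5 v) := by
  classical
  set E := S.EG with hE
  have htop := S.normalizer_EG hcov hA
  have hn : E.Normal := normalizer_eq_top_iff.1 htop
  have hcm : IsMulCommutative E := ⟨⟨fun a b => Subtype.ext (S.EG_comm a a.2 b b.2)⟩⟩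
  set H := centralizer ({S.z} : Set G) with hH
  -- the orbit of `z`
  let orb : G ⧸ H → {u : ↥E // u ≠ 1} := fun q => Quotient.liftOn' q
    (fun g => ⟨⟨g * S.z * g⁻¹, hn.conj_mem _ S.z_mem_EG g⟩,
      fun h => S.z_ne_one (conj_eq_one_iff.1 (congrArg Subtype.val h))⟩) (fun a b hab => by
      rw [QuotientGroup.leftRel_apply] at hab
      have h : a⁻¹ * b * S.z = S.z * (a⁻¹ * b) := mem_centralizer_singleton_iff.1 hab
      refine Subtype.ext (Subtype.ext ?_)
      show a * S.z * a⁻¹ = b * S.z * b⁻¹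
      calc a * S.z * a⁻¹ = a * (S.z * (a⁻¹ * b)) * b⁻¹ := by group
        _ = b * S.z * b⁻¹ := by rw [← h]; group)
  have horb : Function.Bijective orb := by
    constructor
    · intro a b
      induction a using QuotientGroup.induction_on with
      | _ a =>
      induction b using QuotientGroup.induction_on with
      | _ b =>
      intro h
      have h' : a * S.z * a⁻¹ = b * S.z * b⁻¹ := congrArg (fun u : {u : ↥E // u ≠ 1} => (u.1 : G)) h
      refine QuotientGroup.eq.2 (mem_centralizer_singleton_iff.2 ?_)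
      calc a⁻¹ * b * S.z = a⁻¹ * (b * S.z * b⁻¹) * b := by group
        _ = S.z * (a⁻¹ * b) := by rw [← h']; group
    · rintro ⟨⟨u, hu⟩, h1⟩
      obtain ⟨g, rfl⟩ := isConj_iff.1 (S.isConj_of_mem_EG hcov hA hu fun h => h1 (Subtype.ext h))
      exact ⟨(g : G ⧸ H), rfl⟩
  have hidx : H.index = Nat.card {u : ↥E // u ≠ 1} := by
    rw [index_eq_card]; exact Nat.card_eq_of_bijective _ horb
  have hcop : (Nat.card E).Coprime H.index := by
    have h := Nat.card_congr (Equiv.optionSubtypeNe (1 : ↥E))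
    rw [Finite.card_option] at h
    rw [hidx, ← h]
    simp
  let R : Subgroup G := (rowSt.subgroupOf H0).map S.ι
  have hRH : R ≤ H := by rintro _ ⟨h, -, rfl⟩; exact S.ι_mem h
  obtain ⟨K, hK⟩ := Coprime.exists_complement_of_gaschutz E H S.EG_le hcop R hRH
    ((eq_bot_iff_forall _).2 fun g hg => by
      obtain ⟨⟨h, hh, rfl⟩, hgE⟩ := Subgroup.mem_inf.1 hg
      obtain ⟨h', hh', e⟩ := S.mem_EG.1 hgE
      obtain rfl := S.injective e
      rw [show h' = 1 from Subtype.ext (eq_one_of_rowSt hh' hh), map_one])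
    (le_antisymm (sup_le S.EG_le hRH) fun g hg => by
      obtain ⟨h, rfl⟩ := S.exists_ι hg
      obtain ⟨e, he, hr⟩ := exists_mul_rowSt (H0_le_st0 h.2)
      have h1 : S.ι h = S.ι (h * ⟨e, E1_le_H0 he⟩) * (S.ι ⟨e, E1_le_H0 he⟩)⁻¹ := by
        rw [map_mul, mul_inv_cancel_right]
      rw [h1]
      exact mul_mem (mem_sup_right ⟨_, hr, rfl⟩)
        (inv_mem (mem_sup_left (S.mem_EG.2 ⟨_, he, rfl⟩))))
  -- `E` in the model
  let j : ↥E1 →* ↥E :=
    (S.ι.comp (Subgroup.inclusion E1_le_H0)).codRestrict E fun e => S.mem_EG.2 ⟨_, e.2, rfl⟩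
  have hj : Function.Bijective j := by
    constructor
    · intro a b h
      exact Subgroup.inclusion_injective _ (S.injective (congrArg Subtype.val h))
    · rintro ⟨u, hu⟩
      obtain ⟨h, hh, rfl⟩ := S.mem_EG.1 hu
      exact ⟨⟨h, hh⟩, rfl⟩
  let J : ↥E1 ≃* ↥E := MulEquiv.ofBijective j hj
  let α : ↥K →* MulAut ↥E1 :=
    (MulAut.congr J.symm).toMonoidHom.comp (MulAut.conjNormal.comp K.subtype)
  let fE : ↥E →* SL5 := E1.subtype.comp J.symm.toMonoidHom
  let fK : ↥K →* SL5 := blockHom α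
  let L := SemidirectProduct.lift (φ := MulAut.conjNormal.comp K.subtype) fE fK (fun k => MonoidHom.ext fun u => by
      show ((J.symm (MulAut.conjNormal (k : G) u) : ↥E1) : SL5) = blockHom α k * (J.symm u : ↥E1) *
        (blockHom α k)⁻¹
      rw [blockHom_conj]
      show _ = ((J.symm (MulAut.conjNormal (k : G) (J (J.symm u))) : ↥E1) : SL5)
      rw [MulEquiv.apply_symm_apply])
  let ψ : G →* SL5 := L.comp (SemidirectProduct.mulEquivSubgroup hK).symm.toMonoidHom
  have hψr : ∀ g, ψ g ∈ st0 := fun g => by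
    show _ * _ ∈ st0
    exact mul_mem (E1_le_st0 (J.symm _).2) (blockHom_mem_st0 α _)
  have hψi : Function.Injective ψ := by
    suffices hL : Function.Injective L from
      fun a b h => (SemidirectProduct.mulEquivSubgroup hK).symm.injective (hL h)
    rw [injective_iff_map_eq_one]
    rintro ⟨u, k⟩ h
    have h' : ((J.symm u : ↥E1) : SL5) * blockHom α k = 1 := h
    have hk : blockHom α k = ((J.symm u : ↥E1) : SL5)⁻¹ := eq_inv_of_mul_eq_one_right h'
    have hk1 : blockHom α k = 1 :=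
      eq_one_of_rowSt (hk ▸ inv_mem (J.symm u).2) (blockHom_mem_rowSt α k)
    have hu : u = 1 := by
      rw [hk1, mul_one] at h'
      exact J.symm.injective (by rw [map_one]; exact Subtype.ext h')
    have hcomm : ∀ e ∈ E, Commute (k : G) e := fun e he => by
      have := congrArg J (fixed_of_blockHom α hk1 (J.symm ⟨e, he⟩))
      change J (J.symm (MulAut.conjNormal (k : G) (J (J.symm ⟨e, he⟩)))) = J (J.symm ⟨e, he⟩) at this
      rw [MulEquiv.apply_symm_apply, MulEquiv.apply_symm_apply] at this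
      exact mul_inv_eq_iff_eq_mul.1 (congrArg Subtype.val this)
    have hkH : (k : G) ∈ H := mem_centralizer_singleton_iff.2 (hcomm _ S.z_mem_EG).eq
    obtain ⟨h0, hh0⟩ := S.exists_ι hkH
    have hkE : (k : G) ∈ E := by
      refine S.mem_EG.2 ⟨h0, mem_E1_of_commute (H0_le_st0 h0.2) fun i hi => ?_, hh0⟩
      have := hcomm (S.ι ⟨x 0 i, E1_le_H0 (x_mem_E1 i hi)⟩) (S.mem_EG.2 ⟨_, x_mem_E1 i hi, rfl⟩)
      rw [← hh0, Commute, SemiconjBy, ← map_mul, ← map_mul] at this
      exact congrArg Subtype.val (S.injective this)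
    have : (k : G) = 1 := by
      have hm := Subgroup.mem_inf.2 ⟨hkE, k.2⟩
      rwa [disjoint_iff.1 hK.disjoint, mem_bot] at hm
    exact SemidirectProduct.ext hu (Subtype.ext this)
  -- the stabiliser is not larger
  have hcard : Nat.card ↥st0 ≤ Nat.card G := by
    have hSH : Nat.card ↥(H0.subgroupOf st0) = Nat.card ↥H := by
      rw [Nat.card_congr (subgroupOfEquivOfLe H0_le_st0).toEquiv, hH, ← S.range_eq]
      exact Nat.card_congr (MonoidHom.ofInjective S.injective).toEquiv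
    have hi : (H0.subgroupOf st0).index ≤ Nat.card {u : ↥E // u ≠ 1} := by
      have hcE : Nat.card {u : ↥E1 // u ≠ 1} = Nat.card {u : ↥E // u ≠ 1} :=
        Nat.card_congr (J.toEquiv.subtypeEquiv fun u =>
          (not_congr (map_eq_one_iff J J.injective)).symm)
      rw [← hcE, index_eq_card]
      refine Nat.card_le_card_of_injective (fun q => ⟨⟨q.out.1 * tv * q.out.1⁻¹,
        conj_mem_E1 q.out.2 tv_mem_E1⟩, conj_ne_one (conj_mem_E1 q.out.2 tv_mem_E1) tv_ne_one⟩) ?_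
      intro a b h
      have h' := Subtype.ext_iff.1 (Subtype.ext_iff.1 h)
      rw [← QuotientGroup.out_eq' a, ← QuotientGroup.out_eq' b, QuotientGroup.eq, mem_subgroupOf]
      exact (mem_H0_iff _).2 (mul_comm_of_conj_eq h')
    rw [← (H0.subgroupOf st0).card_mul_index, hSH, ← H.card_mul_index, hidx]
    exact Nat.mul_le_mul_left _ hi
  let ψ' : G →* ↥st0 := ψ.codRestrict st0 hψr
  have hψ' : Function.Injective ψ' := fun a b h => hψi (congrArg Subtype.val h)
  have e : G ≃* ↥st0 := MulEquiv.ofBijective ψ' ((Nat.bijective_iff_injective_and_card ψ').2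
    ⟨hψ', le_antisymm (Nat.card_le_card_of_injective ψ' hψ') hcard⟩)
  have hst : MulAction.stabilizer SL5 (Pi.single 0 1 : Fin 5 → ZMod 2) = st0 := by
    ext g
    rw [MulAction.mem_stabilizer_iff]
    change (g : Matrix (Fin 5) (Fin 5) (ZMod 2)).mulVec (Pi.single 0 1) = Pi.single 0 1 ↔ _
    rw [Matrix.mulVec_single_one, funext_iff]
    refine forall_congr' fun i => ?_
    rw [Pi.single_apply]
    rfl
  exact ⟨Pi.single 0 1, fun h => one_ne_zero (α := ZMod 2) (by simpa using congrFun h 0),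
    ⟨e.trans (MulEquiv.subgroupCongr hst.symm)⟩⟩

end Setup

end Cfsg.Agent.L52Cent
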