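import Cfsg.Agent.Lib.L52Cent.InvCheck

/-!
# The classes of involutions of the model

Every involution of the centraliser is conjugate in it to one of the representatives.
-/

set_option autoImplicit false
set_option maxRecDepth 100000

namespace Cfsg.Agent.L52Cent

open Matrix

theorem enc_rep_getD (k : Fin 8) : enc (rep k) = repC.getD k.val 0 := by
  rw [enc_rep]
  fin_cases k <;> rfl

theorem mk_mid_zero (g : H0) (i j : Fin 5) : toM (mk (midC (enc g)) 0) i j =
    if i = 0 ∨ i = 4 ∨ j = 0 ∨ j = 4 then (1 : Matrix (Fin 5) (Fin 5) (ZMod 2)) i j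
    else (g.1 : Matrix (Fin 5) (Fin 5) (ZMod 2)) i j := by
  rw [toM, mk, Nat.testBit_ofBits_lt _ _ (by omega)]
  fin_cases i <;> fin_cases j <;>
    simp [-Nat.testBit_zero, midC, enc, Nat.testBit_ofBits_lt, encM, ite_eq_one, b2z]

theorem mid_sq {g : H0} (hg : g * g = 1) :
    mulC (mk (midC (enc g)) 0) (mk (midC (enc g)) 0) = oneC := by
  refine toM_inj (mulC_lt _ _) (by decide) ?_
  rw [toM_mulC, toM_oneC]
  have hc := entry_col_zero g
  have hr := entry_row_four g
  have e : (g.1 : Matrix (Fin 5) (Fin 5) (ZMod 2)) * (g.1 : Matrix (Fin 5) (Fin 5) (ZMod 2)) = 1 := by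
    simpa using congrArg (fun s : H0 => (s.1 : Matrix (Fin 5) (Fin 5) (ZMod 2))) hg
  funext i j
  have e2 := congrFun (congrFun e i) j
  simp only [Matrix.mul_apply, Fin.sum_univ_five, mk_mid_zero] at e2 ⊢
  fin_cases i <;> fin_cases j <;> simp [hc, hr, Matrix.one_apply] at e2 ⊢ <;> linear_combination e2

theorem exists_line {g : H0} (hg : orderOf g = 2) : ∃ k P Q, (enc g, k, P, Q) ∈ invData := by
  have hsq : g * g = 1 := (pow_two g).symm.trans (orderOf_dvd_iff_pow_eq_one.1 hg.dvd)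
  have hne : enc g ≠ oneC := by
    rw [← enc_one]
    intro h
    rw [enc_injective h, orderOf_one] at hg
    omega
  have hmem : enc g ∈ invEnum := by
    refine List.mem_flatMap.2 ⟨midC (enc g), List.mem_range.2 (midC_lt _), ?_⟩
    rw [if_pos (mid_sq hsq)]
    refine List.mem_filterMap.2 ⟨restC (enc g), List.mem_range.2 (restC_lt _), ?_⟩
    rw [mk_mid_rest, if_pos ⟨by rw [← enc_mul, hsq, enc_one], hne⟩]
  rw [invEnum_eq, List.mem_map] at hmem
  obtain ⟨⟨A, k, P, Q⟩, h, e⟩ := hmem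
  exact ⟨k, P, Q, by rw [← show A = enc g from e]; exact h⟩

theorem conj_of_line {g : H0} {k P Q : ℕ} (h : (enc g, k, P, Q) ∈ invData) :
    ∃ (hk : k < 8) (c : H0), c * rep ⟨k, hk⟩ * c⁻¹ = g := by
  have h2 := List.all_eq_true.1 invData_ok _ h
  change (decide (k < 8) && decide (P < 2 ^ 25) && (mulC P Q == oneC) &&
      (mulC P zC == mulC zC P) && (mulC P (repC.getD k 0) == mulC (enc g) P)) = true at h2
  rw [Bool.and_eq_true, Bool.and_eq_true, Bool.and_eq_true, Bool.and_eq_true] at h2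
  obtain ⟨⟨⟨⟨h3, h4⟩, h5⟩, h6⟩, h7⟩ := h2
  have hk : k < 8 := of_decide_eq_true h3
  obtain ⟨c, hc⟩ := exists_of_code (eq_of_beq h5) (eq_of_beq h6) (of_decide_eq_true h4)
  have e := enc_rep_getD ⟨k, hk⟩
  have h8 : enc (c * rep ⟨k, hk⟩) = enc (g * c) :=
  calc enc (c * rep ⟨k, hk⟩) = mulC (enc c) (enc (rep ⟨k, hk⟩)) := enc_mul _ _
    _ = mulC P (repC.getD k 0) := congrArg₂ mulC hc e
    _ = mulC (enc g) P := eq_of_beq h7
    _ = mulC (enc g) (enc c) := congrArg _ hc.symm
    _ = enc (g * c) := (enc_mul _ _).symm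
  have h9 : c * rep ⟨k, hk⟩ = g * c := enc_injective h8
  exact ⟨hk, c, by rw [h9, mul_inv_cancel_right]⟩

/-- Every involution of the model is conjugate to a representative. -/
theorem exists_conj_rep {g : H0} (hg : orderOf g = 2) :
    ∃ (k : Fin 8) (c : H0), c * rep k * c⁻¹ = g := by
  obtain ⟨k, P, Q, h⟩ := exists_line hg
  obtain ⟨hk, c, hc⟩ := conj_of_line h
  exact ⟨⟨k, hk⟩, c, hc⟩

namespace Setup

variable {G : Type*} [Group G] (S : Setup G)

theorem ι_mem (h : H0) : S.ι h ∈ Subgroup.centralizer ({S.z} : Set G) := by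
  rw [← S.range_eq]
  exact ⟨h, rfl⟩

theorem exists_ι {g : G} (hg : g ∈ Subgroup.centralizer ({S.z} : Set G)) : ∃ h, S.ι h = g := by
  rw [← S.range_eq] at hg
  exact hg

theorem orderOf_ι (h : H0) : orderOf (S.ι h) = orderOf h :=
  orderOf_injective S.ι S.injective h

/-- Every involution of the centraliser is conjugate in it to a representative. -/
theorem exists_rep {g : G} (hg : g ∈ Subgroup.centralizer ({S.z} : Set G)) (h2 : orderOf g = 2) :
    ∃ (k : Fin 8) (c : G), c ∈ Subgroup.centralizer ({S.z} : Set G) ∧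
      c * S.ι (rep k) * c⁻¹ = g := by
  obtain ⟨h, rfl⟩ := S.exists_ι hg
  rw [S.orderOf_ι] at h2
  obtain ⟨k, c, hc⟩ := exists_conj_rep h2
  exact ⟨k, S.ι c, S.ι_mem c, by rw [← map_inv, ← map_mul, ← map_mul, hc]⟩

end Setup

end Cfsg.Agent.L52Cent
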