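import Cfsg.Agent.Lib.L52Cent.Basic
import Mathlib.Algebra.Field.ZMod
import Mathlib.Data.Nat.Bitwise
import Mathlib.Tactic

/-!
# Elements of the model as 25-bit numbers

Bit `5 * i + j` of the code is the entry `(i, j)`.
-/

set_option autoImplicit false

namespace Cfsg.Agent.L52Cent

open Matrix

/-- The code of the identity matrix. -/
def oneC : ℕ := 17043521

/-- The code of `tv`. -/
def zC : ℕ := 17043537

/-- Linear combination of the rows of `B` given by the row `a`. -/
def rowC (a B : ℕ) : ℕ :=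
  ((if a.testBit 0 then B % 32 else 0) ^^^ (if a.testBit 1 then (B >>> 5) % 32 else 0) ^^^
    (if a.testBit 2 then (B >>> 10) % 32 else 0) ^^^ (if a.testBit 3 then (B >>> 15) % 32 else 0) ^^^
    (if a.testBit 4 then (B >>> 20) % 32 else 0))

/-- Product of codes. -/
def mulC (A B : ℕ) : ℕ :=
  rowC A B ||| rowC (A >>> 5) B <<< 5 ||| rowC (A >>> 10) B <<< 10 ||| rowC (A >>> 15) B <<< 15 |||
    rowC (A >>> 20) B <<< 20

/-- A bit as a scalar. -/
def b2z (b : Bool) : ZMod 2 := if b then 1 else 0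

theorem b2z_xor : ∀ a b, b2z (a ^^ b) = b2z a + b2z b := by decide

theorem b2z_and : ∀ a b, b2z (a && b) = b2z a * b2z b := by decide

theorem ite_eq_one : ∀ y : ZMod 2, (if y = 1 then (1 : ZMod 2) else 0) = y := by decide

theorem b2z_eq_one : ∀ y : ZMod 2, b2z (decide (y = 1)) = y := by decide

/-- The matrix of a code. -/
def toM (A : ℕ) : Matrix (Fin 5) (Fin 5) (ZMod 2) := fun i j => b2z (A.testBit (5 * i.val + j.val))

theorem rowC_lt (a B : ℕ) : rowC a B < 2 ^ 5 := by
  have h : ∀ (c : Prop) [Decidable c] (y : ℕ), (if c then y % 32 else 0) < 2 ^ 5 := by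
    intro c _ y
    split <;> omega
  unfold rowC
  exact Nat.xor_lt_two_pow (Nat.xor_lt_two_pow (Nat.xor_lt_two_pow (Nat.xor_lt_two_pow
    (h _ _) (h _ _)) (h _ _)) (h _ _)) (h _ _)

theorem rowC_testBit (a B j : ℕ) (hj : j < 5) : (rowC a B).testBit j =
    ((a.testBit 0 && B.testBit j) ^^ (a.testBit 1 && B.testBit (5 + j)) ^^
      (a.testBit 2 && B.testBit (10 + j)) ^^ (a.testBit 3 && B.testBit (15 + j)) ^^
      (a.testBit 4 && B.testBit (20 + j))) := by
  have h : ∀ (c : Bool) (y : ℕ), (if c then y % 32 else 0).testBit j = (c && y.testBit j) := by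
    intro c y
    cases c
    · simp
    · rw [if_pos rfl, show (32 : ℕ) = 2 ^ 5 by rfl, Nat.testBit_mod_two_pow]
      simp [hj]
  simp only [rowC, Nat.testBit_xor, h, Nat.testBit_shiftRight]

theorem rowC_testBit_high (a B j : ℕ) (hj : 5 ≤ j) : (rowC a B).testBit j = false :=
  Nat.testBit_lt_two_pow ((rowC_lt a B).trans_le (Nat.pow_le_pow_right (by norm_num) hj))

theorem mulC_testBit (A B : ℕ) (i : Fin 5) (j : ℕ) (hj : j < 5) :
    (mulC A B).testBit (5 * i.val + j) = (rowC (A >>> (5 * i.val)) B).testBit j := by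
  fin_cases i <;> simp [mulC, Nat.testBit_shiftLeft] <;>
    simp (disch := omega) [rowC_testBit_high, hj, Nat.not_le.2 hj] <;> grind

theorem toM_mulC (A B : ℕ) : toM (mulC A B) = toM A * toM B := by
  funext i j
  simp only [toM, Matrix.mul_apply, Fin.sum_univ_five, mulC_testBit A B i j.val j.isLt,
    rowC_testBit _ _ _ j.isLt, b2z_xor, b2z_and, Nat.testBit_shiftRight]
  norm_num

theorem mulC_lt (A B : ℕ) : mulC A B < 2 ^ 25 := by
  have h : ∀ a, rowC a B < 2 ^ 5 := fun a => rowC_lt a B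
  have h0 := h A
  have h1 := h (A >>> 5)
  have h2 := h (A >>> 10)
  have h3 := h (A >>> 15)
  have h4 := h (A >>> 20)
  unfold mulC
  refine Nat.or_lt_two_pow (Nat.or_lt_two_pow (Nat.or_lt_two_pow (Nat.or_lt_two_pow
    ?_ ?_) ?_) ?_) ?_ <;> norm_num [Nat.shiftLeft_eq] at * <;> omega

/-- The code of a matrix. -/
def encM (g : Matrix (Fin 5) (Fin 5) (ZMod 2)) : ℕ :=
  Nat.ofBits fun k : Fin 25 => decide (g ⟨k.val / 5, by omega⟩ ⟨k.val % 5, by omega⟩ = 1)

theorem encM_lt (g : Matrix (Fin 5) (Fin 5) (ZMod 2)) : encM g < 2 ^ 25 := Nat.ofBits_lt_two_pow _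

theorem encM_testBit (g : Matrix (Fin 5) (Fin 5) (ZMod 2)) (i j : Fin 5) :
    (encM g).testBit (5 * i.val + j.val) = decide (g i j = 1) := by
  rw [encM, Nat.testBit_ofBits_lt _ _ (by omega)]
  congr 3 <;> ext <;> simp <;> omega

theorem toM_encM (g : Matrix (Fin 5) (Fin 5) (ZMod 2)) : toM (encM g) = g := by
  funext i j
  rw [toM, encM_testBit, b2z_eq_one]

theorem toM_inj {A B : ℕ} (hA : A < 2 ^ 25) (hB : B < 2 ^ 25) (h : toM A = toM B) : A = B := by
  apply Nat.eq_of_testBit_eq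
  intro k
  by_cases hk : k < 25
  · have := congrFun (congrFun h ⟨k / 5, by omega⟩) ⟨k % 5, by omega⟩
    have h2 : ∀ a b, b2z a = b2z b → a = b := by decide
    have h3 := h2 _ _ this
    simp only [Nat.div_add_mod] at h3
    exact h3
  · rw [Nat.testBit_lt_two_pow (hA.trans_le (Nat.pow_le_pow_right (by norm_num) (by omega))),
      Nat.testBit_lt_two_pow (hB.trans_le (Nat.pow_le_pow_right (by norm_num) (by omega)))]

/-- The code of an element of the model. -/
def enc (g : H0) : ℕ := encM (g.1 : Matrix (Fin 5) (Fin 5) (ZMod 2))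

theorem enc_lt (g : H0) : enc g < 2 ^ 25 := encM_lt _

theorem toM_enc (g : H0) : toM (enc g) = (g.1 : Matrix (Fin 5) (Fin 5) (ZMod 2)) := toM_encM _

theorem enc_injective : Function.Injective enc := by
  intro g h e
  apply Subtype.ext
  apply Subtype.ext
  rw [← toM_enc g, ← toM_enc h, e]

theorem enc_mul (g h : H0) : enc (g * h) = mulC (enc g) (enc h) := by
  refine toM_inj (enc_lt _) (mulC_lt _ _) ?_
  rw [toM_mulC, toM_enc, toM_enc, toM_enc]
  simp

theorem toM_oneC : toM oneC = 1 := by decide +kernel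

theorem enc_one : enc 1 = oneC := by
  refine toM_inj (enc_lt _) (by decide) ?_
  rw [toM_enc, toM_oneC]
  simp

theorem toM_zC : toM zC = (tv : Matrix (Fin 5) (Fin 5) (ZMod 2)) := by decide +kernel

theorem enc_eq_iff {g : H0} {A : ℕ} (hA : A < 2 ^ 25) :
    enc g = A ↔ (g.1 : Matrix (Fin 5) (Fin 5) (ZMod 2)) = toM A := by
  constructor
  · rintro rfl
    rw [toM_enc]
  · intro h
    exact toM_inj (enc_lt _) hA (by rw [toM_enc, h])

theorem enc_rep : ∀ k, enc (rep k) = ![17043523, 17043537, 17043649, 17044033, 17051715, 17059907,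
    17043665, 17567937] k := by
  intro k
  rw [enc_eq_iff (by fin_cases k <;> decide)]
  fin_cases k <;> decide +kernel

/-- An element of the model with a given code. -/
theorem exists_of_code {P Q : ℕ} (h : mulC P Q = oneC) (hc : mulC P zC = mulC zC P)
    (hP : P < 2 ^ 25) : ∃ g : H0, enc g = P := by
  have e : toM P * toM Q = 1 := by rw [← toM_mulC, h, toM_oneC]
  have hd : (toM P).det = 1 := by
    have h1 : ∀ a b : ZMod 2, a * b = 1 → a = 1 := by decide
    exact h1 _ (toM Q).det (by rw [← Matrix.det_mul, e, Matrix.det_one])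
  refine ⟨⟨(⟨toM P, hd⟩ : SL5), (mem_H0_iff _).2 ?_⟩, ?_⟩
  · apply Subtype.ext
    show toM P * (tv : Matrix (Fin 5) (Fin 5) (ZMod 2)) = (tv : Matrix (Fin 5) (Fin 5) (ZMod 2)) * toM P
    rw [← toM_zC, ← toM_mulC, ← toM_mulC, hc]
  · exact (enc_eq_iff hP).2 rfl

theorem entry_col_zero (g : H0) (i : Fin 5) (hi : i ≠ 0) :
    (g.1 : Matrix (Fin 5) (Fin 5) (ZMod 2)) i 0 = 0 := by
  have h := congrArg (fun s : SL5 => (s : Matrix (Fin 5) (Fin 5) (ZMod 2)) i 4)
    ((mem_H0_iff g.1).1 g.2)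
  simp only [SpecialLinearGroup.coe_mul, Matrix.mul_apply, Fin.sum_univ_five] at h
  rw [← toM_zC] at h
  generalize (g.1 : Matrix (Fin 5) (Fin 5) (ZMod 2)) = M at *
  fin_cases i <;> simp [toM, b2z, zC, Nat.testBit, Nat.shiftRight_eq_div_pow] at h hi ⊢ <;>
    simp [h]

theorem entry_row_four (g : H0) (j : Fin 5) (hj : j ≠ 4) :
    (g.1 : Matrix (Fin 5) (Fin 5) (ZMod 2)) 4 j = 0 := by
  have h := congrArg (fun s : SL5 => (s : Matrix (Fin 5) (Fin 5) (ZMod 2)) 0 j)
    ((mem_H0_iff g.1).1 g.2)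
  simp only [SpecialLinearGroup.coe_mul, Matrix.mul_apply, Fin.sum_univ_five] at h
  rw [← toM_zC] at h
  generalize (g.1 : Matrix (Fin 5) (Fin 5) (ZMod 2)) = M at *
  fin_cases j <;> simp [toM, b2z, zC, Nat.testBit, Nat.shiftRight_eq_div_pow] at h hj ⊢ <;>
    simp [h]

theorem entry_corner (g : H0) : (g.1 : Matrix (Fin 5) (Fin 5) (ZMod 2)) 0 0 = 1 ∧
    (g.1 : Matrix (Fin 5) (Fin 5) (ZMod 2)) 4 4 = 1 := by
  have hdet := g.1.2
  have hc := entry_col_zero g
  have hr := entry_row_four g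
  have h := congrArg (fun s : SL5 => (s : Matrix (Fin 5) (Fin 5) (ZMod 2)) 0 4)
    ((mem_H0_iff g.1).1 g.2)
  simp only [SpecialLinearGroup.coe_mul, Matrix.mul_apply, Fin.sum_univ_five] at h
  rw [← toM_zC] at h
  generalize (g.1 : Matrix (Fin 5) (Fin 5) (ZMod 2)) = M at *
  have e : M 0 0 = M 4 4 := by
    simp [toM, b2z, zC, Nat.testBit, Nat.shiftRight_eq_div_pow] at h
    linear_combination h
  have h00 : M 0 0 ≠ 0 := by
    intro h0
    have : M.det = 0 := Matrix.det_eq_zero_of_column_eq_zero 0 fun i => by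
      by_cases hi : i = 0
      · rw [hi, h0]
      · exact hc i hi
    rw [this] at hdet
    exact absurd hdet (by decide)
  have h1 : ∀ a : ZMod 2, a ≠ 0 → a = 1 := by decide
  exact ⟨h1 _ h00, e ▸ h1 _ h00⟩

/-- The code with middle block `m` and rest `r`. -/
def mk (m r : ℕ) : ℕ := Nat.ofBits fun k : Fin 25 =>
  if k.val = 0 ∨ k.val = 24 then true
  else if k.val = 4 then r.testBit 3
  else if k.val < 4 then r.testBit (k.val - 1)
  else if k.val % 5 = 0 ∨ 20 ≤ k.val then false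
  else if k.val % 5 = 4 then r.testBit (4 + (k.val / 5 - 1))
  else m.testBit (3 * (k.val / 5 - 1) + (k.val % 5 - 1))

/-- The middle block. -/
def midC (A : ℕ) : ℕ := Nat.ofBits fun k : Fin 9 => A.testBit (5 * (1 + k.val / 3) + 1 + k.val % 3)

/-- The rest. -/
def restC (A : ℕ) : ℕ := Nat.ofBits fun k : Fin 7 =>
  if k.val < 4 then A.testBit (k.val + 1) else A.testBit (5 * (k.val - 3) + 4)

theorem mk_mid_rest (g : H0) : mk (midC (enc g)) (restC (enc g)) = enc g := by
  obtain ⟨c0, c4⟩ := entry_corner g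
  have hc := entry_col_zero g
  have hr := entry_row_four g
  refine toM_inj (Nat.ofBits_lt_two_pow _) (enc_lt g) ?_
  rw [toM_enc]
  funext i j
  rw [toM, mk, Nat.testBit_ofBits_lt _ _ (by omega)]
  fin_cases i <;> fin_cases j <;>
    simp [-Nat.testBit_zero, midC, restC, enc, Nat.testBit_ofBits_lt, encM, ite_eq_one, c0, c4, hc, hr, b2z]

theorem midC_lt (A : ℕ) : midC A < 512 := Nat.ofBits_lt_two_pow _

theorem restC_lt (A : ℕ) : restC A < 128 := Nat.ofBits_lt_two_pow _

end Cfsg.Agent.L52Cent
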