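import Cfsg.Agent.Lib.L52Cent.InvData

/-!
# Checks of the list of involutions
-/

set_option autoImplicit false
set_option maxRecDepth 100000

namespace Cfsg.Agent.L52Cent

/-- The codes of the representatives. -/
def repC : List ℕ :=
  [17043523, 17043537, 17043649, 17044033, 17051715, 17059907, 17043665, 17567937]

/-- The codes of all involutions, by enumeration. -/
def invEnum : List ℕ :=
  (List.range 512).flatMap fun m =>
    if mulC (mk m 0) (mk m 0) = oneC then
      (List.range 128).filterMap fun r =>
        if mulC (mk m r) (mk m r) = oneC ∧ mk m r ≠ oneC then some (mk m r) else none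
    else []

theorem invEnum_eq : invEnum = invData.map Prod.fst := by decide +kernel

/-- The check of one line of the data. -/
def lineOK : ℕ × ℕ × ℕ × ℕ → Bool
  | (A, k, P, Q) => decide (k < 8) && decide (P < 2 ^ 25) && (mulC P Q == oneC) &&
      (mulC P zC == mulC zC P) && (mulC P (repC.getD k 0) == mulC A P)

theorem invData_ok : invData.all lineOK = true := by decide +kernel

end Cfsg.Agent.L52Cent
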